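import Cfsg.Agent.Lib.Comp.J4o.Data
import Cfsg.Agent.Lib.Comp.FixCt

set_option maxRecDepth 100000
set_option maxHeartbeats 400000

namespace Cfsg.Lib.Comp.J4o

open Cfsg.Lib.Comp.J4 Cfsg.Lib.MatB.F2 Subgroup MulAction

theorem c_ex : ∃ g : Spor.J4, MatB.F2.Rp 112 (rho g) (T 7) := by
  obtain ⟨l, h, hl⟩ := cx.slp in_acc c_ok
  obtain ⟨g, -, hg⟩ := hl 0
  refine ⟨ev gam nw * g ^ 7 * ev gam (invA iv nw []), ?_⟩
  rw [← beq_tt.1 h, map_mul, map_mul, map_pow]
  exact cx.mul (cx.mul (rho_ev (by decide +kernel)) (cx.pow hg 7)) (rho_ev (by decide +kernel))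

/-- The letters `x, y, y⁻¹, z₀, b, z, c, s, a, a⁻¹, b⁻¹, s⁻¹`. -/
noncomputable def δ (x : ℕ) : Spor.J4 := if x = 7 then c_ex.choose else ev gm (nth [] WW x)

theorem rp : ∀ x < 64, MatB.F2.Rp 112 (rho (δ x)) (T x) := fun x hx => by
  have := allN_iff.1 w_ok x hx
  rw [cnd_tt, cnd_eq] at this
  unfold δ
  split_ifs with e
  · exact e ▸ c_ex.choose_spec
  · rw [if_neg (mt beq_tt.1 e)] at this
    rw [← beq_tt.1 this.2]
    exact J4C.rp_evm this.1

theorem rpw {w : List ℕ} (h : small w = true) : MatB.F2.Rp 112 (rho (ev δ w)) (evM 112 mR mI T w) := by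
  rw [ev_map]; exact cx.ev rp h

noncomputable def eqM (u v : List ℕ) : Bool :=
  cnd (small u) (cnd (small v) (Nat.beq (evM 112 mR mI T u) (evM 112 mR mI T v)) false) false

theorem m_eq {u v : List ℕ} (h : eqM u v = true) : ev δ u = ev δ v := by
  rw [eqM, cnd_tt, cnd_tt] at h
  exact card_all.2.1 ((rpw h.1).eq (rpw h.2.1) h.2.2)

/-- The first rows agree. -/
noncomputable def sm (A B : ℕ) : Bool :=
  force A fun A => force B fun B => allN 9 fun i => Nat.beq (look A 112 i) (look B 112 i)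

theorem sm_of {u : GL (Fin 112) (ZMod 2)} {A B : ℕ} (h : MatB.F2.Rp 112 u A) (h' : MatB.F2.Rp 112 u B) : sm A B = true := by
  rw [sm, force_eq, force_eq]
  exact allN_iff.2 fun i hi => by_contra fun k => h.ne h' (i := i) (by omega) (Bool.eq_false_iff.2 k) rfl

noncomputable def neM (u v : List ℕ) : Bool :=
  cnd (small u) (cnd (small v) (cnd (sm (evM 112 mR mI T u) (evM 112 mR mI T v)) false true) false) false

theorem m_ne {u v : List ℕ} (h : neM u v = true) : ev δ u ≠ ev δ v := fun e => by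
  rw [neM, cnd_tt, cnd_tt, cnd_ff, sm_of (rpw h.1) (e ▸ rpw h.2.1)] at h
  exact Bool.noConfusion h.2.2.1

theorem comm {x y : ℕ} (h : eqM [x, y] [y, x] = true) : Commute (δ x) (δ y) := by
  simpa [ev_cons, ev_nil, commute_iff_eq] using m_eq h

theorem ords : orderOf (δ 9) = 23 ∧ orderOf (δ 5) = 11 ∧ orderOf (δ 6) = 2 :=
  ⟨J4C.ord_of (rp 9 (by norm_num)) (by norm_num) (by decide +kernel),
    J4C.ord_of (rp 5 (by norm_num)) (by norm_num) (by decide +kernel),
    J4C.ord_of (rp 6 (by norm_num)) (by norm_num) (by decide +kernel)⟩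

theorem cen_card {G : Subgroup (Equiv.Perm ℕ)} {B : List ℕ} (hB : IsBase G B) {z : Equiv.Perm ℕ} {p : ℕ}
    (h : ∀ q ∈ B, ∃ k : ℕ, (z ^ k)⁻¹ p = q) {S : List ℕ} (hS : ∀ c ∈ G, Commute c z → c p ∈ S) :
    Nat.card ↥(G ⊓ centralizer {z}) ≤ S.length := by
  refine (Nat.card_le_card_of_injective (β := S.toFinset) (fun c => ⟨c.1 p, List.mem_toFinset.2
    (hS _ c.2.1 (mem_centralizer_singleton_iff.1 c.2.2))⟩) fun c d e => ?_).trans
    (by rw [Nat.card_eq_fintype_card, Fintype.card_coe]; exact S.toFinset_card_le)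
  have e' : c.1 p = d.1 p := congrArg Subtype.val e
  refine Subtype.ext (inv_mul_eq_one.1 (hB _ (mul_mem (inv_mem c.2.1) d.2.1) fun q hq => ?_))
  obtain ⟨k, rfl⟩ := h q hq
  have a : Commute (c.1⁻¹ * d.1) (z ^ k)⁻¹ := (Commute.pow_right
    (mem_centralizer_singleton_iff.1 (mul_mem (inv_mem c.2.2) d.2.2)) k).inv_right
  rw [← Equiv.Perm.mul_apply, a.eq, Equiv.Perm.mul_apply, Equiv.Perm.mul_apply, ← e']
  simp

/-- The subgroup `M₂₄`. -/
noncomputable abbrev N : Subgroup Spor.J4 := cl gam LN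

noncomputable abbrev nv (w : List ℕ) : N := ev (sval N gam) w

theorem coe_nv {w : List ℕ} (h : subB w LN = true) : (nv w : Spor.J4) = ev gam w :=
  coe_ev_sval fun x hx => mem_cl (sub_of_subB h x hx)

noncomputable def t24 : ℕ → ℕ → ℕ := fun x p => ptInv (nth Net.nil J4p.nets x) p

theorem t24_ok : TbA J4p.nets t24 := tbA_pt J4p.nets_ok

theorem base0 : IsBase (cl (gp J4p.nets) LN) [0, 1, 2, 3, 4, 5, 6] := by
  have e := cl_eq_of_slpB J4p.nets_ok (by norm_num) J4p.slp_ok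
  have := (exact_of_beq (n := 244823040) (L := J4p.L ++ J4p.slp.map (·.1)) (by rw [e]; exact J4p.card.le)
    (C := [([64,65,66,67,68,69,70,71,72,73,74,75,76,77,78,79,80,81,82,83,84],[1,2,64,1,2,68,1],0,0,24),
      ([66,67,68,69,70,71,72,73,74,75,76,77,78,79,80,81,82,83,84],[64,64,68,70,72,64,68],1,1,23),
      ([70,71,72,73,74,75,76,77,78,79,80,81,82,83,84],[66,68,66,68,74,70],2,2,22),
      ([74,75,76,77,78,79,80,81,82,83,84],[70,70,72,70,74,72,74],3,3,21),
      ([78,79,80,81,82,83,84],[74,76,74,76,78,74],4,4,20),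
      ([83,84],[78,82,78,83,80],5,5,16),
      ([],[83,83],6,6,3)]) (by decide +kernel)).isBase J4p.nets_ok
  rwa [e] at this

theorem base1 : IsBase (cl (gp J4p.nets) LN) [17, 13, 1, 9, 3, 21, 4] := fun g hg h => by
  have m : ev (gp J4p.nets) [3, 1, 3, 1, 3, 1, 2, 1, 2, 1, 3] ∈ cl (gp J4p.nets) LN :=
    ev_mem fun x hx => mem_cl (by revert x; decide)
  have := base0 _ (mul_mem (mul_mem m hg) (inv_mem m)) fun b hb => by
    rw [Equiv.Perm.mul_apply, Equiv.Perm.mul_apply, h _ (by rw [← wap_eq t24_ok]; revert b; decide +kernel)]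
    simp
  simpa using this

theorem cen_le {w B : List ℕ} (hB : IsBase (cl (gp J4p.nets) LN) B) {p n : ℕ} (h : subB w LN = true ∧ p < 24 ∧
    wap t24 w p ≠ p ∧ (∀ q ∈ B, ∃ k < 23, witer t24 w k p = q) ∧
    ((List.range 24).filter fun q => wap t24 w q ≠ q).length ≤ n) : Nat.card (centralizer {nv w}) ≤ n := by
  obtain ⟨f, hf⟩ := hom_of_ord.{0, 0} J4e.n_ord gam_iv (rn _ _ gam_iv gam_rel) J4p.nets_iv J4p.nets_rel n_card.ge
  have a : ∀ w, subB w LN = true → f (nv w) = ev (gp J4p.nets) w := fun w hw => by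
    rw [← hf w (sub_of_subB hw)]; exact congrArg f (Subtype.ext (coe_nv hw))
  have i : Function.Injective f := inj_of_simple n_simple (g := nv [1]) fun e => by
    rw [a _ (by decide +kernel)] at e
    exact absurd (wap_eq t24_ok [1] 0) (by rw [e]; decide +kernel)
  have r : f.range = cl (gp J4p.nets) LN := by
    rw [MonoidHom.range_eq_map, ← cl_sval_top gam LN]
    exact map_cl_of_gen fun x hx => by
      rw [← ev_single (gp J4p.nets), ← a _ (by revert x; decide +kernel)]; exact congrArg f (ev_single _ _).symm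
  rw [J4C.cen_map i, r, a w h.1]
  refine (cen_card hB (p := p) (fun q hq => ?_) fun c hc k => List.mem_filter.2 ⟨List.mem_range.2
    ((fx_of_mem_cl J4p.nets_ok.fx hc).lt h.2.1), decide_eq_true (show _ ≠ _ from fun e => h.2.2.1 ?_)⟩).trans h.2.2.2.2
  · obtain ⟨k, -, e⟩ := h.2.2.2.1 q hq
    exact ⟨k, by rw [← e, witer_eq t24_ok]⟩
  · rw [wap_eq t24_ok, ← Equiv.Perm.mul_apply, ← k.inv_right.eq, Equiv.Perm.mul_apply] at e
    rw [wap_eq t24_ok, c.injective e]

theorem d_n {x : ℕ} (h : x ≠ 7 ∧ subB (nth [] WW x) LN = true) : δ x = ev gam (nth [] WW x) := by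
  rw [δ, if_neg h.1]; exact ev_congr _ fun y hy => gm_n y (sub_of_subB h.2 y hy)

theorem na : (nv [1, 2] : Spor.J4) = δ 9 := (coe_nv (by decide +kernel)).trans (d_n (x := 9) (by decide +kernel)).symm

theorem nb : (nv bw : Spor.J4) = δ 5 := (coe_nv (by decide +kernel)).trans (d_n (x := 5) (by decide +kernel)).symm

theorem oa : orderOf (nv [1, 2]) = 23 := by rw [← orderOf_coe, na, ords.1]

theorem ob : orderOf (nv bw) = 11 := by rw [← orderOf_coe, nb, ords.2.1]

theorem zp_le {G : Type*} [Group G] (u : G) : zpowers u ≤ centralizer {u} :=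
  zpowers_le.2 (mem_centralizer_singleton_iff.2 rfl)

theorem cna : Nat.card (centralizer {nv [1, 2]}) ≤ 23 := cen_le base0 (p := 0) (by decide +kernel)

theorem cnb : Nat.card (centralizer {nv bw}) ≤ 11 := by
  have h1 := cen_le base1 (w := bw) (p := 1) (n := 22) (by decide +kernel)
  have h2 := card_dvd_of_le (zp_le (nv bw))
  rw [Nat.card_zpowers, ob] at h2
  by_contra k
  obtain ⟨y, hy⟩ := exists_prime_orderOf_dvd_card' (G := centralizer {nv bw}) 2 (hp := Nat.fact_prime_two) (by omega)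
  have h3 := (centralizer {y.1}).orderOf_dvd_natCard (x := nv bw)
    (mem_centralizer_singleton_iff.2 (mem_centralizer_singleton_iff.1 y.2).symm)
  rw [ob] at h3
  rcases J4C.cen_n ((orderOf_coe y).trans hy) with e | e <;> exact absurd (h3.trans e.dvd) (by norm_num)

theorem red {w : List ℕ} (hw : subB w LN = true) (hc : Nat.card (centralizer {nv w}) ≤ orderOf (nv w)) {m : Spor.J4}
    (hm : m ∈ M) (h : Commute m (nv w)) : ∃ j < orderOf (nv w), ∃ v ∈ fn.ker, Commute (ew w) v ∧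
      m = (nv w : Spor.J4) ^ j * fm v := by
  classical
  obtain ⟨e, rfl⟩ : m ∈ fm.range := fm_range ▸ hm
  have s : subB w L = true := allL_iff.2 fun x hx =>
    allL_iff.1 ((by decide +kernel : ∀ x ∈ LN, subB [x] L = true) x (sub_of_subB hw x hx)) x (by simp)
  have a1 : fm (ew w) = nv w := by
    rw [fm_ev s, coe_nv hw]; exact ev_congr _ fun y hy => gm_n y (sub_of_subB hw y hy)
  have a2 : fn (ew w) = nv w := Subtype.ext (by
    rw [fn_ev s, coe_nv hw]; exact ev_congr _ fun y hy => gn_n y (sub_of_subB hw y hy))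
  have c : Commute e (ew w) := fm_inj (by rw [map_mul, map_mul, a1]; exact h)
  have b : fn e ∈ zpowers (nv w) := (eq_of_le_of_card_ge (zp_le _) (by rw [Nat.card_zpowers]; exact hc)).ge
    (mem_centralizer_singleton_iff.2 (a2 ▸ c.map fn))
  obtain ⟨j, hj, k⟩ := Finset.mem_image.1 (mem_zpowers_iff_mem_range_orderOf.1 b)
  exact ⟨j, Finset.mem_range.1 hj, (ew w ^ j)⁻¹ * e, by
      rw [MonoidHom.mem_ker, map_mul, map_inv, map_pow, a2, k, inv_mul_cancel],
    ((Commute.refl _).pow_right j).inv_right.mul_right c.symm, by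
      rw [map_mul, map_inv, map_pow, a1, mul_inv_cancel_left]⟩

theorem nrm (a : E) : a ∈ normalizer (fn.ker : Set E) := by rw [normalizer_eq_top]; trivial

theorem cma {m : Spor.J4} (hm : m ∈ M) (h : Commute m (δ 9)) : m ∈ zpowers (δ 9) := by
  obtain ⟨j, -, v, hv, c, rfl⟩ := red (by decide +kernel) (oa ▸ cna) hm (na ▸ h)
  rw [(MatB.J4L.l23 (nrm _) a_pow ker_card.dvd z_ker e_az).2 v hv c, map_one, mul_one, na]
  exact pow_mem (mem_zpowers _) j

theorem cmb {m : Spor.J4} (hm : m ∈ M) (h : Commute m (δ 5)) : ∃ j < 11, ∃ i < 2, m = δ 5 ^ j * δ 6 ^ i := by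
  classical
  obtain ⟨j, hj, v, hv, c, rfl⟩ := red (by decide +kernel) (ob ▸ cnb) hm (nb ▸ h)
  have e : ∀ x, x ≠ 7 ∧ subB (nth [] WW x) L = true → fm (ew (nth [] WW x)) = δ x := fun x k => by
    rw [fm_ev k.2, δ, if_neg k.1]
  have e4 : fm (ew [4]) = δ 4 := e 4 (by decide +kernel)
  have e5 : fm (ew bw) = δ 5 := e 5 (by decide +kernel)
  have e6 : fm (ew zb) = δ 6 := e 6 (by decide +kernel)
  obtain ⟨F, f1, f2⟩ := MatB.J4L.fix_conj (nrm (ew bw)) (p := 11) (by norm_num)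
    (fm_inj (by rw [map_pow, e5, map_one, ← ords.2.1, pow_orderOf_eq_one]))
  have z : ew zb ∈ fn.ker := Subtype.ext (J4C.fn_w (w := zb) (u := []) (by decide +kernel) (by decide +kernel))
  have o : orderOf (⟨_, z⟩ : fn.ker) = 2 := by rw [← orderOf_coe, ← orderOf_injective fm fm_inj, e6, ords.2.2]
  obtain ⟨k, hk, f3⟩ := (Nat.dvd_prime_pow Nat.prime_two).1 (ker_card ▸ F.card_subgroup_dvd_card)
  have f4 : k ≠ 11 := fun a => m_ne (u := [5, 4]) (v := [4, 5]) (by decide +kernel) (by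
    have := ((f1 ⟨_, z_ker⟩).1 (eq_top_of_card_eq F (by rw [f3, ker_card, a]) ▸ mem_top _)).map fm
    simpa [ev_cons, ev_nil, e4, e5] using this.eq)
  rw [ker_card, f3] at f2
  have f5 : k = 1 := by
    revert f2 f4; unfold Nat.ModEq; interval_cases k <;> simp
  have f6 := (eq_of_le_of_card_ge (zpowers_le.2 ((f1 ⟨_, z⟩).2 (fm_inj (by
    rw [map_mul, map_mul, e5, e6]; exact comm (by decide +kernel))))) (by rw [Nat.card_zpowers, o, f3, f5]; rfl)).ge
    ((f1 ⟨v, hv⟩).2 c)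
  obtain ⟨i, hi, a⟩ := Finset.mem_image.1 (mem_zpowers_iff_mem_range_orderOf.1 f6)
  exact ⟨j, ob ▸ hj, i, o ▸ Finset.mem_range.1 hi, by
    rw [nb, ← e6, ← map_pow, show ew zb ^ i = v from congrArg Subtype.val a]⟩

theorem fix_cases {u : N} (hu : orderOf u = 11 ∨ orderOf u = 23) {y : Spor.J4 ⧸ M} (h : u • y = y) :
    y = (1 : Spor.J4) ∨ y ∈ orbit N (nd 20) ∧ (orbit N y).ncard = 967680 := by
  obtain ⟨v, hv, e⟩ := cover.2 y
  have a := (stabilizer N y).index_mul_card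
  have b := (stabilizer N y).orderOf_dvd_natCard (x := u) h
  have c := orbit_eq v hv
  rw [← orbit_eq_iff.2 e] at c
  rw [index_stabilizer, c, n_card] at a
  rcases (by clear a c e; revert v; decide +kernel : v.1 = 0 ∨ (v.1 = 20 ∧ v.2.2.2.2.2 = 967680) ∨ 0 < v.2.2.2.2.2 ∧
    ¬ 11 ∣ 244823040 / v.2.2.2.2.2 ∧ ¬ 23 ∣ 244823040 / v.2.2.2.2.2) with k | k | ⟨k1, k2⟩
  · rw [k, nd_zero] at e
    obtain ⟨g, rfl⟩ := e
    exact Or.inl (smul_one_of_mem.2 (n_le g.2))
  · exact Or.inr ⟨k.1 ▸ e, c.trans k.2⟩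
  · rw [← a, Nat.mul_div_cancel_left _ k1] at k2
    rcases hu with k | k <;> rw [k] at b <;> tauto

theorem fix_card {u : N} {p : ℕ} (hp : p = 11 ∨ p = 23) (hu : orderOf u = p) :
    {y : Spor.J4 ⧸ M | u • y = y}.ncard ≤ Nat.card (centralizer {u}) + 1 ∧
      173067389 ≡ {y : Spor.J4 ⧸ M | u • y = y}.ncard [MOD p] := by
  have := quo.1
  have : Fact p.Prime := ⟨by rcases hp with rfl | rfl <;> norm_num⟩
  refine ⟨le_trans (Set.ncard_le_ncard (t := insert ((1 : Spor.J4) : Spor.J4 ⧸ M) {y | y ∈ orbit N (nd 20) ∧ u • y = y})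
    fun y hy => (fix_cases (hu ▸ hp) hy).imp_right fun k => ⟨k.1, hy⟩)
    ((Set.ncard_insert_le _ _).trans (Nat.succ_le_succ (fix_orbit_le _ _))), ?_⟩
  have := fix_mod (S := (Set.univ : Set (Spor.J4 ⧸ M))) (u := u) (p := p) (hu ▸ pow_orderOf_eq_one u) (by simp)
  rw [Set.ncard_univ, show Nat.card (Spor.J4 ⧸ M) = _ from card_all.2.2] at this
  simpa using this

end Cfsg.Lib.Comp.J4o
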