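import Cfsg.Agent.Lib.Comp.J4o.Base

set_option maxRecDepth 100000
set_option maxHeartbeats 400000

namespace Cfsg.Lib.Comp.J4o

open Cfsg.Lib.Comp.J4 Cfsg.Lib.MatB.F2 Subgroup MulAction

theorem d_m {x : ℕ} (h : x ≠ 7 ∧ subB (nth [] WW x) L = true) : δ x ∈ M := by
  rw [δ, if_neg h.1]; exact ev_mem fun y hy => mem_cl (sub_of_subB h.2 y hy)

theorem cb (k : ℕ) : Commute (δ 7 ^ k) (δ 5) := (comm (by decide +kernel)).pow_left k

theorem c_nm {k : ℕ} (h0 : 0 < k) (h : k < 11) : δ 7 ^ k ∉ M := fun hm => by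
  obtain ⟨j, -, i, -, e⟩ := cmb hm (cb k)
  refine m_ne ((by decide +kernel : ∀ k < 11, 0 < k → neM (rpl k 7 [6]) (6 :: rpl k 7 []) = true) k h h0) ?_
  rw [ev_cons, ev_rpl, ev_rpl, ev_single, ev_nil, mul_one, e]
  exact (((comm (by decide +kernel)).pow_left j).mul_left ((Commute.refl _).pow_left i)).eq

theorem fix_a : {y : Spor.J4 ⧸ M | nv [1, 2] • y = y} = {((1 : Spor.J4) : Spor.J4 ⧸ M), (δ 7 : Spor.J4 ⧸ M)} ∧
    ((1 : Spor.J4) : Spor.J4 ⧸ M) ≠ (δ 7 : Spor.J4 ⧸ M) := by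
  have := quo.1
  have n : ((1 : Spor.J4) : Spor.J4 ⧸ M) ≠ (δ 7 : Spor.J4 ⧸ M) := fun e =>
    c_nm (k := 1) (by norm_num) (by norm_num) (by simpa using QuotientGroup.eq.1 e)
  obtain ⟨h1, h2⟩ := fix_card (Or.inr rfl) oa
  have h3 := cna
  refine ⟨(Set.eq_of_subset_of_ncard_le ?_ (by rw [Set.ncard_pair n]; unfold Nat.ModEq at h2; omega)).symm, n⟩
  rintro _ (rfl | rfl)
  · exact smul_one_of_mem.2 (n_le (nv [1, 2]).2)
  · change (((nv [1, 2] : Spor.J4) * δ 7 : Spor.J4) : Spor.J4 ⧸ M) = _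
    have e := m_eq (u := [9, 7]) (v := [7, 6, 10, 6]) (by decide +kernel)
    rw [ev_cons, ev_cons, ev_nil, mul_one, ev_cons] at e
    rw [na, e]
    exact QuotientGroup.mk_mul_of_mem _ (ev_mem fun x hx => d_m (by revert x; decide +kernel))

theorem fix_c (k : ℕ) : nv bw • ((δ 7 ^ k : Spor.J4) : Spor.J4 ⧸ M) = (δ 7 ^ k : Spor.J4) := by
  change (((nv bw : Spor.J4) * δ 7 ^ k : Spor.J4) : Spor.J4 ⧸ M) = _
  rw [nb, ← (cb k).eq]
  exact QuotientGroup.mk_mul_of_mem _ (d_m (by decide +kernel))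

theorem fix_b {y : Spor.J4 ⧸ M} (h : nv bw • y = y) : ∃ k < 11, ((δ 7 ^ k : Spor.J4) : Spor.J4 ⧸ M) = y := by
  have := quo.1
  obtain ⟨h1, h2⟩ := fix_card (Or.inl rfl) ob
  have h3 := cnb
  have a : ∀ k l, k < l → l < 11 → ((δ 7 ^ k : Spor.J4) : Spor.J4 ⧸ M) ≠ (δ 7 ^ l : Spor.J4) := fun k l a b e => by
    obtain ⟨d, rfl⟩ := Nat.exists_eq_add_of_le a.le
    exact c_nm (k := d) (by omega) (by omega) (by simpa [pow_add] using QuotientGroup.eq.1 e)
  exact (Set.eq_of_subset_of_ncard_le (s := (fun k => ((δ 7 ^ k : Spor.J4) : Spor.J4 ⧸ M)) '' Set.Iio 11)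
    (t := {y | nv bw • y = y}) (by rintro _ ⟨k, -, rfl⟩; exact fix_c k) (by
      rw [Set.InjOn.ncard_image (s := Set.Iio 11) fun k hk l hl e => (lt_trichotomy k l).elim (fun b => absurd e (a k l b hl))
        fun b => b.resolve_right fun b => a l k b hk e.symm, Set.ncard_Iio_nat]
      unfold Nat.ModEq at h2; omega)).ge h

/-- The words for the centraliser of `b`. -/
noncomputable def cw (k j i : ℕ) : List ℕ := rpl k 7 (rpl j 5 (rpl i 6 []))

theorem cen_b {g : Spor.J4} (h : Commute g (δ 5)) : ∃ k < 11, ∃ j < 11, ∃ i < 2, g = ev δ (cw k j i) := by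
  obtain ⟨k, hk, e⟩ := fix_b (y := g) (by
    change (((nv bw : Spor.J4) * g : Spor.J4) : Spor.J4 ⧸ M) = _
    rw [nb, ← h.eq]
    exact QuotientGroup.mk_mul_of_mem _ (d_m (by decide +kernel)))
  obtain ⟨j, hj, i, hi, e'⟩ := cmb (QuotientGroup.eq.1 e) ((cb k).inv_left.mul_left h)
  exact ⟨k, hk, j, hj, i, hi, by rw [cw, ev_rpl, ev_rpl, ev_rpl, ev_nil, mul_one, ← e', mul_inv_cancel_left]⟩

theorem ba : δ 5 * δ 9 = δ 9 ^ 2 * δ 5 := by
  simpa [ev_cons, ev_nil, pow_two, mul_assoc] using m_eq (u := [5, 9]) (v := [9, 9, 5]) (by decide +kernel)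

theorem a_inv : δ 10 = (δ 9)⁻¹ := eq_inv_of_mul_eq_one_left (by
  simpa [ev_cons, ev_nil] using m_eq (u := [10, 9]) (v := []) (by decide +kernel))

theorem nreal {π : N} (h : π * nv [1, 2] * π⁻¹ = (nv [1, 2])⁻¹) : False := by
  classical
  have zp : ∀ {u g : N}, Nat.card (centralizer {u}) ≤ orderOf u → Commute g u → ∃ j < orderOf u, u ^ j = g :=
    fun {u g} a b => by
      simpa using mem_zpowers_iff_mem_range_orderOf.1 ((eq_of_le_of_card_ge (zp_le u) (by
        rw [Nat.card_zpowers]; exact a)).ge (mem_centralizer_singleton_iff.2 b))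
  have r : nv bw * nv [1, 2] = nv [1, 2] ^ 2 * nv bw := Subtype.ext (by
    rw [coe_mul, coe_mul, coe_pow, na, nb, ba])
  have o1 := oa
  have o2 := ob
  have c1 := cna
  have c2 := cnb
  generalize nv bw = b at *
  generalize nv [1, 2] = a at *
  have h' : π⁻¹ * a * π = a⁻¹ := by
    rw [← inv_inj, inv_inv, mul_inv_rev, mul_inv_rev, inv_inv, ← h]; group
  have r' : b * a * b⁻¹ = a ^ 2 := by rw [r, mul_inv_cancel_right]
  obtain ⟨k, -, e⟩ := zp (o1 ▸ c1) (g := b⁻¹ * (π * b * π⁻¹)) (by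
    have s1 : π * b * π⁻¹ * a * (π * b * π⁻¹)⁻¹ = b * a * b⁻¹ := by
      calc _ = π * (b * (π⁻¹ * a * π) * b⁻¹) * π⁻¹ := by group
        _ = (π * (b * a * b⁻¹) * π⁻¹)⁻¹ := by rw [h']; group
        _ = _ := by rw [r', ← conj_pow, h, inv_pow, inv_inv]
    calc _ = b⁻¹ * (π * b * π⁻¹ * a * (π * b * π⁻¹)⁻¹) * (π * b * π⁻¹) := by group
      _ = _ := by rw [s1]; group)
  have s2 : b * a ^ k = a ^ (2 * k) * b := by simpa [mul_comm] using conj_pow_pow r 1 k
  obtain ⟨l, hl, e'⟩ := zp (o2 ▸ c2) (g := a ^ (2 * k) * π) (by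
    have s3 : π * b = a ^ (2 * k) * b * π := by rw [← s2, e]; group
    have s4 : b * a ^ (2 * k) = a ^ (2 * k) * a ^ (2 * k) * b := by
      rw [← pow_add, ← mul_two]; simpa using conj_pow_pow r 1 (2 * k)
    change _ * b = b * _
    rw [mul_assoc, s3, ← mul_assoc b, s4]; group)
  have s5 := conj_pow_pow r l 1
  rw [pow_one, one_mul, e', mul_assoc, mul_inv_eq_iff_eq_mul.1 h, ← mul_assoc, ← mul_assoc, mul_left_inj, ← pow_add,
    add_comm, pow_add, mul_right_inj, inv_eq_iff_mul_eq_one, ← pow_succ', ← orderOf_dvd_iff_pow_eq_one, o1] at s5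
  rw [o2] at hl
  revert s5; interval_cases l <;> norm_num

theorem ia : ev δ [7, 6] * δ 9 = (δ 9)⁻¹ * ev δ [7, 6] := by
  rw [← a_inv, ← ev_single δ 9, ← ev_append, ← ev_cons]
  exact m_eq (by decide +kernel)

theorem cen_a (c : Spor.J4) (h : Commute c (δ 9)) : c ∈ zpowers (δ 9) := by
  have a : (c : Spor.J4 ⧸ M) ∈ {y : Spor.J4 ⧸ M | nv [1, 2] • y = y} := by
    change (((nv [1, 2] : Spor.J4) * c : Spor.J4) : Spor.J4 ⧸ M) = _
    rw [na, ← h.eq]
    exact QuotientGroup.mk_mul_of_mem _ (d_m (by decide +kernel))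
  rcases fix_a.1.le a with e | e
  · exact cma (by simpa using QuotientGroup.eq.1 e) h
  obtain ⟨m, hm⟩ : c⁻¹ * ev δ [7, 6] ∈ fm.range := by
    rw [fm_range, ev_cons, ev_single, ← mul_assoc]
    exact mul_mem (QuotientGroup.eq.1 e) (d_m (by decide +kernel))
  have b : m * ew [1, 2] * m⁻¹ = (ew [1, 2])⁻¹ := fm_inj (by
    rw [map_mul, map_mul, map_inv, map_inv, hm, fm_a, ← coe_nv (by decide +kernel), na, mul_assoc c⁻¹, ia,
      ← mul_assoc c⁻¹, h.inv_inv.eq]
    group)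
  have k : fn (ew [1, 2]) = nv [1, 2] := Subtype.ext
    ((J4C.fn_w (by decide +kernel) (by decide +kernel)).trans (coe_nv (by decide +kernel)).symm)
  exact (nreal (π := fn m) (by rw [← k, ← map_inv, ← map_mul, ← map_mul, b, map_inv])).elim

theorem top_of {J : Subgroup Spor.J4} (h : M ≤ J) (hc : δ 7 ∈ J) : J = ⊤ := by
  have := quo.1
  have : Fact (Nat.Prime 23) := ⟨by norm_num⟩
  have a1 := relIndex_mul_index h
  have a2 : M.relIndex J = (orbit J ((1 : Spor.J4) : Spor.J4 ⧸ M)).ncard := by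
    rw [← index_stabilizer, relIndex]
    exact congrArg index (Subgroup.ext fun g => (smul_one_of_mem (H := M) (a := g.1)).symm)
  have m : ∀ g : N, ∀ y ∈ orbit J ((1 : Spor.J4) : Spor.J4 ⧸ M), g • y ∈ orbit J ((1 : Spor.J4) : Spor.J4 ⧸ M) := by
    rintro g _ ⟨k, rfl⟩
    exact ⟨⟨g, h (n_le g.2)⟩ * k, mul_smul _ _ _⟩
  have c : (δ 7 : Spor.J4 ⧸ M) ∈ orbit J ((1 : Spor.J4) : Spor.J4 ⧸ M) := ⟨⟨_, hc⟩, congrArg _ (mul_one _)⟩
  have a3 := fix_mod (p := 23) (oa ▸ pow_orderOf_eq_one _) (m (nv [1, 2]))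
  rw [show {y | y ∈ orbit J ((1 : Spor.J4) : Spor.J4 ⧸ M) ∧ nv [1, 2] • y = y} = {y | nv [1, 2] • y = y} from
    Set.ext fun y => and_iff_right_of_imp fun k => by
      rcases fix_a.1.le k with rfl | rfl
      exacts [mem_orbit_self _, c], fix_a.1, Set.ncard_pair fix_a.2] at a3
  have a4 := Set.ncard_le_ncard (s := orbit N (δ 7 : Spor.J4 ⧸ M)) (by rintro _ ⟨g, rfl⟩; exact m g _ c)
  rw [((fix_cases (Or.inl ob) (by simpa using fix_c 1)).resolve_left fix_a.2.symm).2] at a4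
  rw [a2, card_all.2.2] at a1
  have a5 : J.index < 179 := by nlinarith
  refine index_eq_one.1 ((by decide +kernel : ∀ k < 179, k ∣ 173067389 → 173067389 / k % 23 = 2 → k = 1) _ a5
    (Dvd.intro_left _ a1) ?_)
  rw [← a1, Nat.mul_div_cancel _ (Nat.pos_of_ne_zero fun e => by rw [e] at a1; omega)]
  exact a3

/-- `α` fixes the letters `F`. -/
def Fi (α : MulAut Spor.J4) (F : List ℕ) : Prop := ∀ x ∈ F, α (δ x) = δ x

theorem Fi.ev {α : MulAut Spor.J4} {F w : List ℕ} (h : Fi α F) (hw : ∀ x ∈ w, x ∈ F) : α (ev δ w) = ev δ w :=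
  map_ev_of_gen (f := α.toMonoidHom) fun x hx => h x (hw x hx)

theorem Fi.add {α : MulAut Spor.J4} {F w : List ℕ} (h : Fi α F) {y : ℕ}
    (hw : eqM [y] w = true ∧ ∀ x ∈ w, x ∈ F) : Fi α (y :: F) :=
  List.forall_mem_cons.2 ⟨by rw [← ev_single δ, m_eq hw.1, h.ev hw.2], h⟩

/-- The equations `RT` hold after the substitution of `W` for `y`. -/
noncomputable def holds (y W : ℕ) (RT : List (List ℕ × List ℕ)) : Bool :=
  allL RT fun r => sm (evM 112 mR mI (fun x => cnd (Nat.beq x y) W (T x)) r.1)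
    (evM 112 mR mI (fun x => cnd (Nat.beq x y) W (T x)) r.2)

/-- All candidates are excluded, except for the letter itself and the identity. -/
noncomputable def candB (y : ℕ) (t : List ℕ) (RT : List (List ℕ × List ℕ)) : Bool :=
  allN 11 fun k => allN 11 fun j => allN 2 fun i => cnd (small (apd (cw k j i) t))
    (force (evM 112 mR mI T (apd (cw k j i) t)) fun W =>
      cnd (holds y W RT) (cnd (Nat.beq W (T y)) true (Nat.beq W mI)) true) false

theorem step {α : MulAut Spor.J4} {F t : List ℕ} (hF : Fi α F) {y : ℕ} (hc : Commute (α (δ y) * (ev δ t)⁻¹) (δ 5))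
    {RT : List (List ℕ × List ℕ)} (hR : y < 64 ∧ neM [y] [] = true ∧ ∀ r ∈ RT, eqM r.1 r.2 = true ∧ small r.1 = true ∧
      small r.2 = true ∧ (∀ x ∈ r.1, x ∈ y :: F) ∧ ∀ x ∈ r.2, x ∈ y :: F) (h : candB y t RT = true) : Fi α (y :: F) := by
  obtain ⟨k, hk, j, hj, i, hi, e⟩ := cen_b hc
  rw [mul_inv_eq_iff_eq_mul, ← ev_append, ← apd_eq] at e
  have a := allN_iff.1 (allN_iff.1 (allN_iff.1 h k hk) j hj) i hi
  rw [cnd_tt, force_eq] at a
  have r := rpw a.1
  have b := a.2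
  generalize evM 112 mR mI T (apd (cw k j i) t) = W at r b
  rw [← e] at r
  have s : ∀ x < 64, MatB.F2.Rp 112 (rho (if x = y then α (δ y) else δ x)) (cnd (Nat.beq x y) W (T x)) := fun x hx => by
    rw [cnd_eq]
    by_cases c : x = y
    · rw [if_pos c, if_pos (beq_tt.2 c)]; exact r
    · rw [if_neg c, if_neg (mt beq_tt.1 c)]; exact rp x hx
  have q : ∀ w, (∀ x ∈ w, x ∈ y :: F) → ev (fun x => rho (if x = y then α (δ y) else δ x)) w = rho (α (ev δ w)) :=
    fun w hw => by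
      rw [← ev_map]
      refine congrArg rho (map_ev_of_gen (f := α.toMonoidHom) fun x hx => ?_).symm
      split_ifs with c
      exacts [c ▸ rfl, hF x ((List.mem_cons.1 (hw x hx)).resolve_left c)]
  rw [show holds y W RT = true from allL_iff.2 fun r hr => by
    obtain ⟨c1, c2, c3, c4, c5⟩ := hR.2.2 r hr
    exact sm_of (cx.ev s c2) (by rw [q _ c4, m_eq c1, ← q _ c5]; exact cx.ev s c3)] at b
  refine List.forall_mem_cons.2 ⟨?_, hF⟩
  cases c : Nat.beq W (T y)
  · rw [c] at b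
    have := card_all.2.1 ((r.eq cx.one b).trans rho.map_one.symm)
    exact absurd (by rw [ev_single, ev_nil]; simpa using this) (m_ne hR.2.1)
  · exact card_all.2.1 (r.eq (rp y hR.1) c)

theorem inner (α : MulAut Spor.J4) : ∃ g, MulAut.conj g * α = 1 := by
  obtain ⟨g, k, hk, h1, h2, -⟩ := aut_normal_form (x := δ 9) (y := ev δ [7, 6, 5]) (t := 1) (p := 23)
    (m := 3772850915046850560) (e := 21) (j := 0) (f := 0) (J := 22) (by norm_num) (card_all.1.trans (by norm_num))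
    (by norm_num) (ords.1 ▸ pow_orderOf_eq_one _) (fun e => by simpa [e] using ords.1) (by
      rw [← ev_rpl, ← ev_single δ 9, ← ev_append]; exact m_eq (by decide +kernel)) (by norm_num) cen_a (KR := [1])
    (by decide +kernel) (by simp) α
  refine ⟨g, MulEquiv.ext fun u => ?_⟩
  generalize MulAut.conj g * α = β at h1 h2
  rw [List.mem_singleton.1 hk, pow_one] at h1
  have p : ∀ w n, small w = true ∧ Nat.beq (evM 112 mR mI T w) (pwM 112 mR mI (evM 112 mR mI T [7, 6, 5]) n) = true →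
      β (ev δ w) = ev δ w := fun w n e => by
    rw [card_all.2.1 (((rpw e.1).eq (cx.pow (rpw (by decide +kernel)) n) e.2).trans (map_pow rho _ n).symm), map_pow, h2]
  have f1 : Fi β [5, 9] := List.forall_mem_cons.2
    ⟨by simpa [ev_single] using p [5] 12 (by decide +kernel), List.forall_mem_singleton.2 h1⟩
  have f2 := step (f1.add (y := 10) (w := rpl 22 9 []) (by decide +kernel)) (y := 6) (t := []) (by
      rw [ev_nil, inv_one, mul_one, ← f1 5 (by simp)]; exact (comm (by decide +kernel)).map β)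
    (RT := [([6, 6], []), ([6, 9, 6, 9, 9, 9, 9, 6, 9, 6, 9, 6, 9, 9, 6, 9, 9, 6], rpl 11 9 [])])
    (by decide +kernel) (by decide +kernel)
  have f3 : Fi β [7, 6, 10, 5, 9] := List.forall_mem_cons.2 ⟨by
    have := p [7, 6] 11 (by decide +kernel)
    rwa [ev_cons, ev_single, map_mul, f2 6 (by simp), mul_left_inj] at this, f2⟩
  have f4 := step f3 (y := 8) (t := [8]) (by
      have e := m_eq (u := [5, 8]) (v := 8 :: rpl 6 5 []) (by decide +kernel)
      rw [ev_cons, ev_single, ev_cons, ← inv_mul_eq_iff_eq_mul, ← mul_assoc] at e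
      have e' := congrArg β e
      rw [f3.ev (by decide +kernel), ← e, map_mul, map_mul, map_inv, f3 5 (by simp)] at e'
      rw [ev_single]
      calc _ = β (δ 8) * ((δ 8)⁻¹ * δ 5 * δ 8) * (δ 8)⁻¹ := by group
        _ = _ := by rw [← e']; group)
    (RT := [([9, 8, 9, 8, 9, 8, 9, 8], []), ([7, 8], 8 :: rpl 8 7 [])]) (by decide +kernel) (by decide +kernel)
  have f5 := (((((f4.add (y := 11) (w := rpl 10 5 []) (by decide +kernel)).add (y := 12) (w := rpl 9 8 [])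
    (by decide +kernel)).add (y := 1) (w := [10, 10, 12, 10, 8, 9, 5, 12, 12, 9, 12, 11, 10, 5])
    (by decide +kernel)).add (y := 2) (w := [1, 9]) (by decide +kernel)).add (y := 3) (w := [2, 2])
    (by decide +kernel)).add (y := 4) (w := [1, 2, 1, 6, 1, 3, 3, 1, 2, 1, 3, 1, 2, 6, 3, 1, 2, 1, 3, 1, 2, 1])
    (by decide +kernel)
  have e := top_of (J := MonoidHom.eqLocus β.toMonoidHom (MonoidHom.id _)) (cl_le.2 fun x hx => by
    have : δ x = gm x := by
      obtain ⟨a, b⟩ := (by decide +kernel : ∀ x ∈ L, x ≠ 7 ∧ nth [] WW x = [x]) x hx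
      rw [δ, if_neg a, b, ev_single]
    exact this ▸ f5 x (by clear this; revert x; decide)) (f5 7 (by simp))
  exact (e ▸ mem_top u :)

theorem out_one : Nat.card (Out Spor.J4) = 1 :=
  card_out_eq_one (card_out_le_of [()] (fun β _ => β = 1) (fun α => (inner α).imp fun _ h => ⟨(), by simp, h⟩)
    fun _ _ _ a b => a.trans b.symm)

end Cfsg.Lib.Comp.J4o
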